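import Cfsg.Agent.H965.XZ.PanPlus
import Cfsg.Agent.H716.RGDAb

/-!
# The torus of `PΩ⁺_{2m}(q)` (helper729, for S4791 / S4927)

* `tor_pow` : the elements of the torus of `E Q` have order dividing `|F| - 1` if the anisotropic part is zero;
* `not_dvd_T` : primes not dividing `|F| - 1` do not divide the order of the torus of `PΩ`;
* `not_dvd_T_of_ord` : the same with `1 < orderOf (|F| : ZMod p)`;
* `card_X` : the orders of the simple root groups of type `D` (`H965.XZ.card_XD`).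
-/

set_option autoImplicit false
set_option linter.unusedSectionVars false

namespace Cfsg.Agent.H729.XZ

open Cfsg
open CoxeterSystem Cfsg.Agent.ChevalleyStructure.CoxeterGeom Cfsg.Agent.Tits.Roots
  Cfsg.Agent.Nodes.Comb Cfsg.Agent.Nodes.Reps Cfsg.Agent.Nodes.BNOf
  Cfsg.Agent.Nodes.RGDLib Cfsg.Agent.Nodes.TypeD
open Cfsg.Agent.Nodes Cfsg.Agent.Nodes.WittInst
open Cfsg.Agent.TitsThree Cfsg.Agent.TitsThree.Siegel Cfsg.Agent.TitsThree.SiegelGen
  Cfsg.Agent.TitsThree.WittFrame Cfsg.Agent.TitsThree.WBridge Cfsg.Agent.TitsThree.WittWeyl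
  Cfsg.Agent.TitsThree.FrameCN
open QuadraticMap
open Cfsg.Agent.LieClassical Cfsg.Agent.LieClassical.OrthCore Cfsg.Agent.LieClassical.OrthTrans
open Cfsg.Agent.LieClassical.OrthSimple Cfsg.Agent.LieClassical.OrthFinite
open Cfsg.Agent.LieClassical.OrthForms
open Cfsg.Agent.TitsThree.KSideO Cfsg.Agent.TitsThree.StdData
open Cfsg.Agent.Nodes.WittRGD (Tor mem_Tor)
open Cfsg.Agent.Nodes.WittRoot (Amb)

section

variable {F : Type*} [Field F] {V : Type*} [AddCommGroup V] [Module F V] {H : HForm F V} {n : ℕ}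
  {Fr : Frame H (Fin n)} {G0 : Subgroup (V ≃ₗ[F] V)}

/-- the exponent of the torus -/
theorem tor_pow [Finite F] (hV : ∀ v, (∀ x, H.h v (Fr.b x) = 0) → v ∈ Fr.V0) (h0 : ∀ w ∈ Fr.V0, w = 0)
    {s : V ≃ₗ[F] V} (hs : s ∈ Tor Fr G0) : s ^ (Nat.card F - 1) = 1 := by
  refine H716.RGDAb.eq_one_of_fix hV (fun x => ?_) fun w hw => ?_
  · obtain ⟨l, hl0, hl⟩ := hs.2 x
    rw [id] at hl
    have h1 : ∀ k : ℕ, (s ^ k) (Fr.b x) = l ^ k • Fr.b x := by
      intro k
      induction k with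
      | zero => rw [pow_zero, pow_zero, one_smul]; rfl
      | succ k ih =>
        rw [pow_succ']
        show s ((s ^ k) (Fr.b x)) = _
        rw [ih, map_smul, hl, smul_smul, pow_succ]
    rw [h1]
    have h2 : l ^ (Nat.card F - 1) = 1 := by
      have := Fintype.ofFinite F
      rw [Nat.card_eq_fintype_card]
      exact FiniteField.pow_card_sub_one_eq_one l hl0
    rw [h2, one_smul]
  · rw [h0 w hw, map_zero]

end

section

variable {ι : Type} [Fintype ι] [DecidableEq ι] {F : Type*} [Field F] {Q : QuadraticForm F (ι → F)} {m : ℕ}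
  (W : WFrame (PO Q) m) (hG : Good Q)

/-- primes not dividing `|F| - 1` do not divide the order of the torus -/
theorem not_dvd_T [Finite F] (hA : Amb (toFrame W) (E Q)) (h0 : ∀ w ∈ (toFrame W).V0, w = 0) {p : ℕ} [hp : Fact p.Prime]
    (hpF : ¬ p ∣ Nat.card F - 1) :
    ¬ p ∣ Nat.card ↥(((Tor (toFrame W) (E Q)).subgroupOf (E Q)).map (toPOmega hG)) := by
  intro h
  have : Finite ((ι → F) ≃ₗ[F] (ι → F)) :=
    Finite.of_injective (fun g : (ι → F) ≃ₗ[F] (ι → F) => (g : (ι → F) → (ι → F))) DFunLike.coe_injective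
  obtain ⟨y, hy⟩ := exists_prime_orderOf_dvd_card' p h
  obtain ⟨g, hg, hgy⟩ := y.2
  apply hpF
  rw [← hy]
  apply orderOf_dvd_of_pow_eq_one
  apply Subtype.ext
  rw [Subgroup.coe_pow, ← hgy, ← map_pow]
  have h1 : g ^ (Nat.card F - 1) = 1 := by
    apply Subtype.ext
    rw [Subgroup.coe_pow]
    exact tor_pow hA.V0 h0 (Subgroup.mem_subgroupOf.1 hg)
  rw [h1, map_one]
  rfl

theorem not_dvd_T_of_ord [Finite F] (hA : Amb (toFrame W) (E Q)) (h0 : ∀ w ∈ (toFrame W).V0, w = 0) {p : ℕ}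
    [hp : Fact p.Prime] (he : 1 < orderOf (Nat.card F : ZMod p)) :
    ¬ p ∣ Nat.card ↥(((Tor (toFrame W) (E Q)).subgroupOf (E Q)).map (toPOmega hG)) := by
  refine not_dvd_T W hG hA h0 fun h => ?_
  have h1 : ((Nat.card F - 1 : ℕ) : ZMod p) = 0 := (ZMod.natCast_eq_zero_iff _ _).2 h
  rw [Nat.cast_sub Nat.card_pos, Nat.cast_one, sub_eq_zero] at h1
  rw [h1, orderOf_one] at he
  exact lt_irrefl _ he

end

/-- the orders of the simple root groups -/
theorem card_X {ι : Type} [Fintype ι] [DecidableEq ι] {F : Type*} [Field F] {Q : QuadraticForm F (ι → F)} {n : ℕ}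
    (W : WFrame (PO Q) (n + 2)) (hG : Good Q) (i : Fin (n + 2)) :
    Nat.card (XD W (toPOmega hG) (sr i)) = Nat.card F := H965.XZ.card_XD W hG i

/-- **the standard frame**: `PΩ⁺_{2m}(q)` -/
theorem not_dvd_T_plus {F : Type*} [Field F] [Finite F] (m : ℕ) (hG : Good (plusForm m F)) {p : ℕ} [Fact p.Prime]
    (he : 1 < orderOf (Nat.card F : ZMod p)) :
    ¬ p ∣ Nat.card ↥(((Tor (toFrame (wplus m F)) (E (plusForm m F))).subgroupOf (E (plusForm m F))).map (toPOmega hG)) :=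
  not_dvd_T_of_ord (wplus m F) hG (amb_plus (F := F) m) (fun _ hw => (Submodule.mem_bot F).1 hw) he

end Cfsg.Agent.H729.XZ
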